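import Mathlib
import Cfsg.Prelude.Def_Local
import Cfsg.Agent.Lib.Layer.PComponent
import Cfsg.Agent.Lib.Layer.PComponentTop
import Cfsg.Agent.Lib.Layer.LBalance
import Cfsg.Agent.Lib.Coprime.SchurZassenhaus

/-!
An intrinsic description of `p`-components and their behaviour under homomorphisms.
-/

set_option autoImplicit false
set_option linter.style.haveILetI false
set_option linter.unusedSectionVars false

namespace CfsgLib.NonQS

open Cfsg
open CfsgLib.Layer

universe u v

/-- A surjection with central kernel from a perfect group onto a quasisimple group. -/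
theorem isQuasisimple_of_central_ker {X : Type u} {Y : Type v} [Group X] [Group Y] [Group.IsPerfect X]
    {f : X →* Y} (hf : Function.Surjective f) (hker : f.ker ≤ Subgroup.center X)
    (hY : IsQuasisimple Y) : IsQuasisimple X := by
  haveI : Nontrivial Y := nontrivial_of_isQuasisimple hY
  haveI : Nontrivial X := hf.nontrivial
  refine isQuasisimple_of_normal_le_center fun N hN => ?_
  haveI := hN
  haveI : (N.map f).Normal := Subgroup.Normal.map hN f hf
  rcases eq_top_or_le_center_of_normal hY (N.map f) with h | h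
  · left
    refine eq_top_of_sup_center_eq_top (top_le_iff.mp ?_)
    have h2 := congrArg (Subgroup.comap f) h
    rw [Subgroup.comap_map_eq, Subgroup.comap_top] at h2
    exact h2 ▸ sup_le_sup_left hker N
  · right
    have h1 : ⁅N, (⊤ : Subgroup X)⁆ ≤ f.ker := by
      rw [← Subgroup.map_eq_bot_iff, Subgroup.map_commutator,
        Subgroup.commutator_eq_bot_iff_le_centralizer]
      exact h.trans (Subgroup.center_le_centralizer _)
    have h2 : ⁅⁅(⊤ : Subgroup X), N⁆, (⊤ : Subgroup X)⁆ = ⊥ := by
      rw [Subgroup.commutator_comm ⊤ N, Subgroup.commutator_eq_bot_iff_le_centralizer]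
      exact (h1.trans hker).trans (Subgroup.center_le_centralizer _)
    have htop : ⁅(⊤ : Subgroup X), (⊤ : Subgroup X)⁆ = ⊤ := by
      rw [← commutator_def]; exact Group.IsPerfect.commutator_eq_top
    have h3 := commutator_eq_bot_of_perfect htop h2
    rw [Subgroup.commutator_comm, Subgroup.commutator_eq_bot_iff_le_centralizer] at h3
    exact fun x hx => Subgroup.mem_center_iff.mpr fun y =>
      Subgroup.mem_centralizer_iff.mp (h3 hx) y (Subgroup.mem_top y)

/-- The intrinsic definition of a `p`-component. -/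
structure PComp (p : ℕ) {G : Type u} [Group G] (K : Subgroup G) : Prop where
  sn : K.IsSubnormal
  gen : pGen p K = K
  qs : IsQuasisimple (↥K ⧸ pPrimeCore p ↥K)

variable {p : ℕ} [hp : Fact p.Prime] {G : Type u} [Group G] [Finite G]

theorem pGen_pGen (Y : Subgroup G) : pGen p (pGen p Y) = pGen p Y :=
  le_antisymm (pGen_le _) ((Subgroup.closure_le _).mpr fun _ hx =>
    mem_pGen (j := hx.2.choose) (Subgroup.subset_closure hx) hx.2.choose_spec)

theorem pGen_eq_of_closure {K : Subgroup G}
    (h : ∀ x ∈ K, x ∈ Subgroup.closure {x | x ∈ K ∧ ∃ j, orderOf x ∣ p ^ j}) : pGen p K = K :=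
  le_antisymm (pGen_le K) h

theorem pGen_map_of_gen {H : Type v} [Group H] (f : G →* H) {K : Subgroup G} (hK : pGen p K = K) :
    pGen p (K.map f) = K.map f := by
  refine le_antisymm (pGen_le _) ?_
  conv_lhs => rw [← hK]
  rw [pGen, MonoidHom.map_closure, Subgroup.closure_le]
  rintro _ ⟨x, ⟨hx, j, hj⟩, rfl⟩
  exact mem_pGen (j := j) ⟨x, hx, rfl⟩ ((orderOf_map_dvd f x).trans hj)

theorem eq_bot_of_gen_of_coprime {K : Subgroup G} (hK : pGen p K = K)
    (hc : (Nat.card K).Coprime p) : K = ⊥ := by
  rw [eq_bot_iff]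
  refine hK.symm.le.trans ?_
  refine (Subgroup.closure_le _).mpr ?_
  rintro x ⟨hx, j, hj⟩
  rw [SetLike.mem_coe, Subgroup.mem_bot, ← orderOf_eq_one_iff]
  exact Nat.eq_one_of_dvd_coprimes (hc.pow_right j)
    (Subgroup.orderOf_dvd_natCard K hx) hj

theorem map_ker_coreRestrict {X : Subgroup G} (hX : X.IsSubnormal) :
    ((QuotientGroup.mk' (pPrimeCore p G)).subgroupMap X).ker = pPrimeCore p ↥X := by
  haveI := Transfer.pPrimeCore_normal p G
  ext k
  rw [MonoidHom.mem_ker, mem_pPrimeCore_iff hX, ← QuotientGroup.eq_one_iff, Subtype.ext_iff]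
  rfl

theorem PComp.of_isPComponent {K : Subgroup G} (h : IsPComponent p K) : PComp p K := by
  haveI := Transfer.pPrimeCore_normal p ↥K
  refine ⟨h.1, ?_, isQuasisimple_quotient_pPrimeCore h⟩
  rw [eq_pComponentOf h, pComponentOf, pGen_pGen]

theorem PComp.isPComponent {K : Subgroup G} (h : PComp p K) : IsPComponent p K := by
  haveI := Transfer.pPrimeCore_normal p G
  haveI := Transfer.pPrimeCore_normal p ↥K
  set π := QuotientGroup.mk' (pPrimeCore p G) with hπ
  have hsurj : Function.Surjective (π.subgroupMap K) := π.subgroupMap_surjective K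
  refine ⟨h.sn, ⟨h.sn.map (QuotientGroup.mk'_surjective _), ?_⟩, fun H hH hle he => ?_⟩
  · exact (isQuasisimple_congr ((QuotientGroup.quotientMulEquivOfEq (map_ker_coreRestrict h.sn)).symm.trans
      (QuotientGroup.quotientKerEquivOfSurjective _ hsurj))).mp h.qs
  · refine le_antisymm hle (h.gen.symm.le.trans (pGen_le_of_isSubnormal hH hle ?_))
    have eK := Coprime.relIndex_mul_card_inf (pPrimeCore p G) K
    have eH := Coprime.relIndex_mul_card_inf (pPrimeCore p G) H
    have e1 : ∀ Y : Subgroup G, Nat.card (Y.map π) = (pPrimeCore p G).relIndex Y := fun Y => by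
      have := Subgroup.card_eq_card_quotient_mul_card_subgroup (π.subgroupMap Y).ker
      rw [Nat.card_congr (QuotientGroup.quotientKerEquivOfSurjective _
        (π.subgroupMap_surjective Y)).toEquiv] at this
      have e := Coprime.relIndex_mul_card_inf (pPrimeCore p G) Y
      have hk : Nat.card (π.subgroupMap Y).ker = Nat.card ↥(pPrimeCore p G ⊓ Y) := by
        rw [Subgroup.ker_subgroupMap, hπ, QuotientGroup.ker_mk',
          ← Subgroup.card_map_of_injective Y.subtype_injective, Subgroup.subgroupOf_map_subtype]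
      rw [hk, ← e] at this
      exact (Nat.eq_of_mul_eq_mul_right Nat.card_pos this).symm
    rw [← e1, ← he, e1 H] at eK
    have hrel : H.relIndex K * Nat.card H = Nat.card K := by
      have := Coprime.relIndex_mul_card_inf H K
      rwa [inf_eq_left.mpr hle] at this
    have key : H.relIndex K * Nat.card ↥(pPrimeCore p G ⊓ H) = Nat.card ↥(pPrimeCore p G ⊓ K) := by
      refine Nat.eq_of_mul_eq_mul_left (n := (pPrimeCore p G).relIndex H) ?_ ?_
      · exact Nat.pos_of_ne_zero (left_ne_zero_of_mul (eH ▸ Nat.card_pos.ne'))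
      · rw [eK, ← hrel, ← eH, mul_left_comm]
    exact (Transfer.pPrimeCore_coprime (G := G) p).coprime_dvd_left
      (dvd_trans (Dvd.intro _ key)
        (Subgroup.card_dvd_of_le (inf_le_left : pPrimeCore p G ⊓ K ≤ _)))

theorem pComp_iff {K : Subgroup G} : PComp p K ↔ IsPComponent p K :=
  ⟨PComp.isPComponent, PComp.of_isPComponent⟩

theorem PComp.ne_bot {K : Subgroup G} (h : PComp p K) : K ≠ ⊥ := by
  rintro rfl
  haveI := nontrivial_of_isQuasisimple h.qs
  obtain ⟨a, b, hab⟩ := exists_pair_ne (↥(⊥ : Subgroup G) ⧸ pPrimeCore p ↥(⊥ : Subgroup G))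
  obtain ⟨a, rfl⟩ := QuotientGroup.mk'_surjective _ a
  obtain ⟨b, rfl⟩ := QuotientGroup.mk'_surjective _ b
  exact hab (by rw [Subsingleton.elim a b])

theorem PComp.perfect {K : Subgroup G} (h : PComp p K) : ⁅K, K⁆ = K :=
  commutator_eq_self_of_isPComponent h.isPComponent

/-- Images of `p`-components are `p`-components, if subnormal and nontrivial. -/
theorem PComp.map {H : Type u} [Group H] [Finite H] (f : G →* H) {K : Subgroup G} (h : PComp p K)
    (hsn : (K.map f).IsSubnormal) (hne : K.map f ≠ ⊥) : PComp p (K.map f) := by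
  haveI := Transfer.pPrimeCore_normal p ↥K
  haveI := Transfer.pPrimeCore_normal p ↥(K.map f)
  have hgen := pGen_map_of_gen f h.gen
  refine ⟨hsn, hgen, ?_⟩
  have hs : Function.Surjective (f.subgroupMap K) := f.subgroupMap_surjective K
  haveI : ((pPrimeCore p ↥K).map (f.subgroupMap K)).Normal :=
    Subgroup.Normal.map inferInstance _ hs
  have hle : (pPrimeCore p ↥K).map (f.subgroupMap K) ≤ pPrimeCore p ↥(K.map f) :=
    Transfer.le_pPrimeCore inferInstance
      ((Transfer.pPrimeCore_coprime (G := ↥K) p).coprime_dvd_left (Subgroup.card_map_dvd _ _))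
  haveI : Nontrivial (↥(K.map f) ⧸ pPrimeCore p ↥(K.map f)) :=
    QuotientGroup.nontrivial_iff.mpr fun htop => hne (eq_bot_of_gen_of_coprime hgen (by
      rw [← Subgroup.card_top (G := ↥(K.map f)), ← htop]
      exact Transfer.pPrimeCore_coprime p))
  refine isQuasisimple_of_surjective (f := QuotientGroup.map (pPrimeCore p ↥K)
    (pPrimeCore p ↥(K.map f)) (f.subgroupMap K) (Subgroup.map_le_iff_le_comap.mp hle)) ?_ h.qs
  intro y
  obtain ⟨y, rfl⟩ := QuotientGroup.mk'_surjective _ y
  obtain ⟨x, rfl⟩ := hs y
  exact ⟨QuotientGroup.mk x, rfl⟩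

theorem PComp.map_injective {H : Type u} [Group H] [Finite H] {f : G →* H} (hf : Function.Injective f)
    {K : Subgroup G} (h : PComp p K) (hsn : (K.map f).IsSubnormal) : PComp p (K.map f) :=
  h.map f hsn fun he => h.ne_bot ((Subgroup.map_eq_bot_iff_of_injective _ hf).mp he)

theorem pGen_of_map_injective {H : Type v} [Group H] {f : G →* H} (hf : Function.Injective f)
    {K : Subgroup G} (h : pGen p (K.map f) = K.map f) : pGen p K = K := by
  refine Subgroup.map_injective hf ?_
  refine le_antisymm (Subgroup.map_mono (pGen_le K)) (h.symm.le.trans ?_)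
  refine (Subgroup.closure_le _).mpr ?_
  rintro _ ⟨⟨x, hx, rfl⟩, j, hj⟩
  rw [orderOf_injective f hf] at hj
  exact ⟨x, mem_pGen (j := j) hx hj, rfl⟩

theorem isQuasisimple_coreQuot_congr {A B : Type u} [Group A] [Finite A] [Group B] [Finite B]
    (e : A ≃* B) (h : IsQuasisimple (A ⧸ pPrimeCore p A)) : IsQuasisimple (B ⧸ pPrimeCore p B) := by
  haveI := Transfer.pPrimeCore_normal p A
  haveI := Transfer.pPrimeCore_normal p B
  exact (isQuasisimple_congr (QuotientGroup.congr (pPrimeCore p A) (pPrimeCore p B) e
    (PSolvable.map_equiv_pPrimeCore e))).mp h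

/-- Restriction of a `p`-component to a subgroup containing it. -/
theorem PComp.subgroupOf {K H : Subgroup G} (h : PComp p K) (hle : K ≤ H) :
    PComp p (K.subgroupOf H) :=
  ⟨h.sn.subgroupOf, pGen_of_map_injective H.subtype_injective
      (by rw [Subgroup.map_subgroupOf_eq_of_le hle]; exact h.gen),
    isQuasisimple_coreQuot_congr (Subgroup.subgroupOfEquivOfLe hle).symm h.qs⟩

/-- A quasisimple `p`-component is a component. -/
theorem PComp.isComponent {K : Subgroup G} (h : PComp p K) (hq : IsQuasisimple ↥K) :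
    IsComponent K := ⟨h.sn, hq⟩

variable (p G)

/-- The join of the quasisimple `p`-components. -/
def qsPart : Subgroup G := ⨆ K : {K : Subgroup G // PComp p K ∧ IsQuasisimple ↥K}, (K : Subgroup G)

/-- The join of the `p`-components that are not quasisimple. -/
def nqsPart : Subgroup G := ⨆ K : {K : Subgroup G // PComp p K ∧ ¬ IsQuasisimple ↥K}, (K : Subgroup G)

variable {p G}

theorem qsPart_le_layer : qsPart p G ≤ layer G :=
  iSup_le fun K => isComponent_le_layer (K.2.1.isComponent K.2.2)

theorem le_qsPart {K : Subgroup G} (h : PComp p K) (hq : IsQuasisimple ↥K) : K ≤ qsPart p G :=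
  le_iSup (fun K : {K : Subgroup G // PComp p K ∧ IsQuasisimple ↥K} => (K : Subgroup G)) ⟨K, h, hq⟩

theorem le_nqsPart {K : Subgroup G} (h : PComp p K) (hq : ¬ IsQuasisimple ↥K) : K ≤ nqsPart p G :=
  le_iSup (fun K : {K : Subgroup G // PComp p K ∧ ¬ IsQuasisimple ↥K} => (K : Subgroup G)) ⟨K, h, hq⟩

theorem pLayer_le_parts : pLayer p G ≤ nqsPart p G ⊔ qsPart p G := by
  refine sSup_le fun K hK => ?_
  have hK' : IsPComponent p K := hK
  by_cases hq : IsQuasisimple ↥K
  · exact (le_qsPart (PComp.of_isPComponent hK') hq).trans le_sup_right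
  · exact (le_nqsPart (PComp.of_isPComponent hK') hq).trans le_sup_left

theorem normal_of_iSup {P : Subgroup G → Prop}
    (h : ∀ (g : G) (K : Subgroup G), P K → P (K.map (MulAut.conj g).toMonoidHom)) :
    (⨆ K : {K : Subgroup G // P K}, (K : Subgroup G)).Normal := by
  set S := ⨆ K : {K : Subgroup G // P K}, (K : Subgroup G) with hS
  refine ⟨fun x hx g => ?_⟩
  have hle : S ≤ S.comap (MulAut.conj g).toMonoidHom := iSup_le fun K => by
    rw [← Subgroup.map_le_iff_le_comap]
    exact le_iSup (fun K : {K : Subgroup G // P K} => (K : Subgroup G)) ⟨_, h g K K.2⟩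
  exact hle hx

theorem PComp.conj {K : Subgroup G} (h : PComp p K) (g : G) :
    PComp p (K.map (MulAut.conj g).toMonoidHom) :=
  h.map_injective (MulAut.conj g).injective (h.sn.map (MulAut.conj g).surjective)

theorem qsPart_normal : (qsPart p G).Normal :=
  normal_of_iSup fun g K hK => ⟨hK.1.conj g,
    (isQuasisimple_congr (K.equivMapOfInjective _ (MulAut.conj g).injective)).mp hK.2⟩

theorem nqsPart_normal : (nqsPart p G).Normal :=
  normal_of_iSup fun g K hK => ⟨hK.1.conj g, fun hq =>
    hK.2 ((isQuasisimple_congr (K.equivMapOfInjective _ (MulAut.conj g).injective)).mpr hq)⟩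

theorem commutator_parts : ⁅nqsPart p G, qsPart p G⁆ = ⊥ := by
  rw [Subgroup.commutator_comm, Subgroup.commutator_eq_bot_iff_le_centralizer]
  refine iSup_le fun D => ?_
  rw [Subgroup.le_centralizer_iff]
  refine iSup_le fun K => ?_
  rw [Subgroup.le_centralizer_iff]
  have hDc : IsComponent (D : Subgroup G) := D.2.1.isComponent D.2.2
  rcases le_or_commutator_eq_bot hDc K.2.1.sn with h | h
  · exfalso
    -- a component inside a `p`-component is all of it
    have hD' : PComp p ((D : Subgroup G).subgroupOf (K : Subgroup G)) := D.2.1.subgroupOf h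
    haveI := Transfer.pPrimeCore_normal p ↥(K : Subgroup G)
    set π := QuotientGroup.mk' (pPrimeCore p ↥(K : Subgroup G))
    have hsn : (((D : Subgroup G).subgroupOf (K : Subgroup G)).map π).IsSubnormal :=
      hD'.sn.map (QuotientGroup.mk'_surjective _)
    have hdvd : ¬ (D : Subgroup G).subgroupOf (K : Subgroup G) ≤ pPrimeCore p ↥(K : Subgroup G) :=
      fun hle => hD'.ne_bot (eq_bot_of_gen_of_coprime hD'.gen
        ((Transfer.pPrimeCore_coprime p).coprime_dvd_left (Subgroup.card_dvd_of_le hle)))
    rcases eq_top_or_le_center_of_isSubnormal K.2.1.qs hsn with htop | hc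
    · have hm := hD'.isPComponent
      -- `D` covers `K` modulo the core
      have hKD : (K : Subgroup G) ≤ D := by
        have hi : (((D : Subgroup G).subgroupOf (K : Subgroup G)).relIndex ⊤).Coprime p := by
          have h2 := congrArg (Subgroup.comap π) htop
          rw [Subgroup.comap_map_eq, QuotientGroup.ker_mk', Subgroup.comap_top] at h2
          set D' := (D : Subgroup G).subgroupOf (K : Subgroup G) with hD'def
          set O := pPrimeCore p ↥(K : Subgroup G) with hO
          have e1 := Coprime.relIndex_mul_card_inf D' ⊤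
          have e2 := Coprime.relIndex_mul_card_inf O D'
          have e3 := Coprime.relIndex_mul_card_inf O ⊤
          have e4 : O.relIndex ⊤ = O.relIndex D' := by
            rw [← h2, sup_comm, Coprime.relIndex_sup_of_le_normalizer Subgroup.le_normalizer_of_normal]
          rw [inf_top_eq] at e1 e3
          rw [e4] at e3
          refine (Transfer.pPrimeCore_coprime (G := ↥(K : Subgroup G)) p).coprime_dvd_left
            (Dvd.intro (Nat.card ↥(O ⊓ D')) ?_)
          refine Nat.eq_of_mul_eq_mul_left (n := O.relIndex D') ?_ ?_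
          · exact Nat.pos_of_ne_zero (left_ne_zero_of_mul (e2 ▸ Nat.card_pos.ne'))
          · rw [e3, ← e1, ← e2, mul_left_comm]
        have h3 := pGen_le_of_isSubnormal hD'.sn le_top hi
        intro k hk
        have hk' : (⟨k, hk⟩ : ↥(K : Subgroup G)) ∈ pGen p (⊤ : Subgroup ↥(K : Subgroup G)) := by
          have hg : pGen p ((⊤ : Subgroup ↥(K : Subgroup G)).map (K : Subgroup G).subtype) =
              (⊤ : Subgroup ↥(K : Subgroup G)).map (K : Subgroup G).subtype := by
            rw [← MonoidHom.range_eq_map, Subgroup.range_subtype]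
            exact K.2.1.gen
          rw [pGen_of_map_injective (K := (⊤ : Subgroup ↥(K : Subgroup G)))
            (K : Subgroup G).subtype_injective hg]
          trivial
        exact Subgroup.mem_subgroupOf.mp (h3 hk')
      exact K.2.2 (le_antisymm h hKD ▸ D.2.2)
    · -- otherwise its image is abelian and perfect
      apply hdvd
      have hperf : ⁅((D : Subgroup G).subgroupOf (K : Subgroup G)).map π,
          ((D : Subgroup G).subgroupOf (K : Subgroup G)).map π⁆ =
          ((D : Subgroup G).subgroupOf (K : Subgroup G)).map π := by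
        rw [← Subgroup.map_commutator, hD'.perfect]
      rw [← QuotientGroup.ker_mk' (pPrimeCore p ↥(K : Subgroup G)), ← Subgroup.map_eq_bot_iff,
        ← hperf, Subgroup.commutator_eq_bot_iff_le_centralizer]
      exact hc.trans (Subgroup.center_le_centralizer _)
  · exact Subgroup.commutator_eq_bot_iff_le_centralizer.mp h

end CfsgLib.NonQS
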