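import Mathlib
import Cfsg.Prelude.Def_EvenTechniques
import Cfsg.Prelude.Def_KGroupFacts
import Cfsg.Agent.Lib.NonQS.PComp

/-!
The hypothesis on the sections with quasisimple generalized Fitting subgroup, and auxiliary
facts on central extensions of `p`-components.
-/

set_option autoImplicit false
set_option linter.style.haveILetI false
set_option linter.unusedSectionVars false

open scoped commutatorElement

namespace CfsgLib.NonQS

open Cfsg
open CfsgLib.Layer

universe u v

/-! ### Commutators of commuting products -/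

section Commutators

variable {G : Type u} [Group G]

theorem commutatorElement_mul_mul {a b c d : G} (hac : Commute a c) (had : Commute a d)
    (hbc : Commute b c) (hbd : Commute b d) : ⁅a * c, b * d⁆ = ⁅a, b⁆ * ⁅c, d⁆ := by
  have h1 : (a * c)⁻¹ = a⁻¹ * c⁻¹ := by rw [hac.eq, mul_inv_rev]
  have h2 : (b * d)⁻¹ = b⁻¹ * d⁻¹ := by rw [hbd.eq, mul_inv_rev]
  have h3 : a * c * (b * d) = a * b * (c * d) := hbc.symm.mul_mul_mul_comm a d
  have h4 : Commute c⁻¹ b⁻¹ := hbc.symm.inv_inv
  have h5 : a⁻¹ * c⁻¹ * (b⁻¹ * d⁻¹) = a⁻¹ * b⁻¹ * (c⁻¹ * d⁻¹) := h4.mul_mul_mul_comm a⁻¹ d⁻¹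
  have h6 : Commute (c * d) (a⁻¹ * b⁻¹) :=
    Commute.mul_left (hac.symm.inv_right.mul_right hbc.symm.inv_right)
      (had.symm.inv_right.mul_right hbd.symm.inv_right)
  rw [commutatorElement_def, commutatorElement_def, commutatorElement_def, mul_assoc _ (a * c)⁻¹, h3,
    h1, h2, h5, h6.mul_mul_mul_comm (a * b) (c⁻¹ * d⁻¹)]
  simp only [mul_assoc]

theorem commutator_sup_central {A Z : Subgroup G} (hZ : Z ≤ Subgroup.center G) :
    ⁅A ⊔ Z, A ⊔ Z⁆ = ⁅A, A⁆ := by
  refine le_antisymm (Subgroup.commutator_le.mpr fun g hg h hh => ?_)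
    (Subgroup.commutator_mono le_sup_left le_sup_left)
  haveI : Z.Normal := ⟨fun z hz g => by
    rw [Subgroup.mem_center_iff.mp (hZ hz) g, mul_inv_cancel_right]; exact hz⟩
  obtain ⟨a, ha, z, hz, rfl⟩ := Subgroup.mem_sup_of_normal_right.mp hg
  obtain ⟨b, hb, w, hw, rfl⟩ := Subgroup.mem_sup_of_normal_right.mp hh
  have hc : ∀ {y : G}, y ∈ Z → ∀ g, Commute g y := fun hy g => Subgroup.mem_center_iff.mp (hZ hy) g
  rw [commutatorElement_mul_mul (hc hz a) (hc hw a) (hc hz b) (hc hw b),
    commutatorElement_eq_one_iff_mul_comm.mpr (hc hw z).eq, mul_one]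
  exact Subgroup.commutator_mem_commutator ha hb

end Commutators

variable {p : ℕ} [hp : Fact p.Prime]

/-! ### The hypothesis on sections -/

/-- For every section with quasisimple generalized Fitting subgroup and trivial `p'`-core, the
`p`-components of centralisers of elements of order `p` are quasisimple and the outer
automorphism group of the simple composition factor is soluble. -/
def Good (p : ℕ) (X : Type u) [Group X] : Prop :=
  ∀ (H : Subgroup X) (Q : Type u) [Group Q] [Finite Q] (f : ↥H →* Q), Function.Surjective f →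
    IsQuasisimple ↥(generalizedFittingSubgroup Q) → pPrimeCore p Q = ⊥ →
    (∀ x : Q, orderOf x = p → ∀ K : Subgroup ↥(Subgroup.centralizer ({x} : Set Q)),
        PComp p K → IsQuasisimple ↥K) ∧
      Group.IsSolvable (Cfsg.Out (↥(generalizedFittingSubgroup Q) ⧸
        Subgroup.center ↥(generalizedFittingSubgroup Q)))

theorem layer_map_equiv {A : Type u} {B : Type v} [Group A] [Group B] (e : A ≃* B) :
    (layer A).map e.toMonoidHom = layer B := by
  refine le_antisymm ?_ ?_
  · rw [Subgroup.map_le_iff_le_comap]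
    exact sSup_le fun K hK => Subgroup.map_le_iff_le_comap.mp
      (le_sSup (s := {K : Subgroup B | IsComponent K}) (isComponent_map_equiv e hK))
  · refine sSup_le fun K hK => ?_
    have h : K.map e.symm.toMonoidHom ≤ layer A :=
      le_sSup (s := {K : Subgroup A | IsComponent K}) (isComponent_map_equiv e.symm hK)
    intro k hk
    exact ⟨e.symm k, h ⟨k, hk, rfl⟩, e.apply_symm_apply k⟩

theorem fitting_map_equiv {A : Type u} {B : Type v} [Group A] [Finite A] [Group B] [Finite B]
    (e : A ≃* B) : (fittingSubgroup A).map e.toMonoidHom = fittingSubgroup B := by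
  have key : ∀ {A : Type u} {B : Type v} [Group A] [Finite A] [Group B] [Finite B] (e : A ≃* B),
      (fittingSubgroup A).map e.toMonoidHom ≤ fittingSubgroup B := by
    intro A B _ _ _ _ e
    haveI := CfsgLib.Fitting.fittingSubgroup_normal (G := A)
    haveI := CfsgLib.Fitting.fittingSubgroup_isNilpotent (G := A)
    exact CfsgLib.Fitting.le_fittingSubgroup (Subgroup.Normal.map inferInstance _ e.surjective)
      (Group.nilpotent_of_surjective (e.toMonoidHom.subgroupMap (fittingSubgroup A))
        (e.toMonoidHom.subgroupMap_surjective _))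
  refine le_antisymm (key e) ?_
  intro b hb
  haveI := CfsgLib.Fitting.fittingSubgroup_normal (G := B)
  haveI := CfsgLib.Fitting.fittingSubgroup_isNilpotent (G := B)
  refine ⟨e.symm b, ?_, e.apply_symm_apply b⟩
  exact CfsgLib.Fitting.le_fittingSubgroup
    (Subgroup.Normal.map (inferInstance : (fittingSubgroup B).Normal) e.symm.toMonoidHom e.symm.surjective)
    (Group.nilpotent_of_surjective (e.symm.toMonoidHom.subgroupMap (fittingSubgroup B))
      (e.symm.toMonoidHom.subgroupMap_surjective _)) ⟨b, hb, rfl⟩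

theorem gF_map_equiv {A : Type u} {B : Type v} [Group A] [Finite A] [Group B] [Finite B]
    (e : A ≃* B) :
    (generalizedFittingSubgroup A).map e.toMonoidHom = generalizedFittingSubgroup B := by
  rw [generalizedFittingSubgroup, Subgroup.map_sup, layer_map_equiv e, fitting_map_equiv e]
  rfl

theorem out_solvable_congr {A : Type u} {B : Type v} [Group A] [Group B] (e : A ≃* B)
    (h : Group.IsSolvable (Cfsg.Out A)) : Group.IsSolvable (Cfsg.Out B) := by
  haveI := h
  refine Group.isSolvable_of_surjective (f := (QuotientGroup.congr (Cfsg.Inn A) (Cfsg.Inn B)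
    (MulAut.congr e) ?_).toMonoidHom) (MulEquiv.surjective _)
  ext φ
  constructor
  · rintro ⟨_, ⟨a, rfl⟩, rfl⟩
    refine ⟨e a, MulEquiv.ext fun b => ?_⟩
    show e a * b * (e a)⁻¹ = e (a * e.symm b * a⁻¹)
    simp
  · rintro ⟨b, rfl⟩
    refine ⟨_, ⟨e.symm b, rfl⟩, MulEquiv.ext fun c => ?_⟩
    show e (e.symm b * e.symm c * (e.symm b)⁻¹) = b * c * b⁻¹
    simp

theorem quotient_center_congr {A : Type u} {B : Type v} [Group A] [Group B] (e : A ≃* B) :
    Nonempty (A ⧸ Subgroup.center A ≃* B ⧸ Subgroup.center B) := by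
  refine ⟨QuotientGroup.congr (Subgroup.center A) (Subgroup.center B) e ?_⟩
  ext b
  constructor
  · rintro ⟨a, ha, rfl⟩
    refine Subgroup.mem_center_iff.mpr fun c => ?_
    obtain ⟨c, rfl⟩ := e.surjective c
    exact (map_mul e c a).symm.trans ((congrArg e (Subgroup.mem_center_iff.mp ha c)).trans (map_mul e a c))
  · intro hb
    refine ⟨e.symm b, Subgroup.mem_center_iff.mpr fun c => ?_, e.apply_symm_apply b⟩
    apply e.injective
    simp [Subgroup.mem_center_iff.mp hb (e c)]

/-- The hypotheses in terms of the sections `H/N`. -/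
theorem good_of_sections {X : Type u} [Group X] [Finite X]
    (hB : ∀ (H : Subgroup X) (N : Subgroup ↥H) [N.Normal], HasQuasisimpleGeneralizedFitting (↥H ⧸ N) →
      pPrimeCore p (↥H ⧸ N) = ⊥ → HasBpProperty p (↥H ⧸ N))
    (hS : ∀ (H : Subgroup X) (N : Subgroup ↥H) [N.Normal], HasQuasisimpleGeneralizedFitting (↥H ⧸ N) →
      pPrimeCore p (↥H ⧸ N) = ⊥ →
        Group.IsSolvable (Cfsg.Out (↥(generalizedFittingSubgroup (↥H ⧸ N)) ⧸
          Subgroup.center ↥(generalizedFittingSubgroup (↥H ⧸ N))))) : Good p X := by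
  intro H Q _ _ f hf hq hO
  set e : ↥H ⧸ f.ker ≃* Q := QuotientGroup.quotientKerEquivOfSurjective f hf with he
  have eF : ↥(generalizedFittingSubgroup (↥H ⧸ f.ker)) ≃* ↥(generalizedFittingSubgroup Q) :=
    ((generalizedFittingSubgroup (↥H ⧸ f.ker)).equivMapOfInjective e.toMonoidHom e.injective).trans
      (MulEquiv.subgroupCongr (gF_map_equiv e))
  have hq' : HasQuasisimpleGeneralizedFitting (↥H ⧸ f.ker) := (isQuasisimple_congr eF).mpr hq
  have hO' : pPrimeCore p (↥H ⧸ f.ker) = ⊥ := by
    rw [← Subgroup.map_eq_bot_iff_of_injective _ (f := e.toMonoidHom) e.injective,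
      PSolvable.map_equiv_pPrimeCore e, hO]
  refine ⟨fun x hx K hK => ?_, out_solvable_congr (quotient_center_congr eF).some (hS H f.ker hq' hO')⟩
  obtain ⟨y, rfl⟩ := e.surjective x
  have hy : orderOf y = p := by rw [← hx, ← orderOf_injective e.toMonoidHom e.injective y]; rfl
  let i : ↥(Subgroup.centralizer ({e y} : Set Q)) →* ↥(Subgroup.centralizer ({y} : Set (↥H ⧸ f.ker))) :=
    (e.symm.toMonoidHom.comp (Subgroup.centralizer ({e y} : Set Q)).subtype).codRestrict _ fun c => by
      refine Subgroup.mem_centralizer_singleton_iff.mpr ?_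
      show e.symm c * y = y * e.symm c
      apply e.injective
      rw [map_mul, map_mul, e.apply_symm_apply]
      exact Subgroup.mem_centralizer_singleton_iff.mp c.2
  have hi : Function.Injective i := fun a b h => Subtype.ext (e.symm.injective (congrArg Subtype.val h))
  have his : Function.Surjective i := by
    intro c
    refine ⟨⟨e c, Subgroup.mem_centralizer_singleton_iff.mpr ?_⟩, Subtype.ext (e.symm_apply_apply c)⟩
    rw [← map_mul, Subgroup.mem_centralizer_singleton_iff.mp c.2, map_mul]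
  exact (isQuasisimple_congr (K.equivMapOfInjective i hi)).mpr
    ((hB H f.ker hq' hO').2 y hy _ (hK.map_injective hi (hK.sn.map his)).isPComponent)

theorem Good.subgroup {X : Type u} [Group X] (h : Good p X) (Y : Subgroup X) : Good p ↥Y :=
  fun H Q _ _ f hf => h (H.map Y.subtype) Q
    (f.comp (H.equivMapOfInjective Y.subtype Y.subtype_injective).symm.toMonoidHom)
    (hf.comp (MulEquiv.surjective _))

theorem Good.of_surjective {X Z : Type u} [Group X] [Group Z] (h : Good p X) (φ : X →* Z)
    (hφ : Function.Surjective φ) : Good p Z := by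
  intro H Q _ _ f hf
  refine h (H.comap φ) Q (f.comp (φ.subgroupComap H)) (hf.comp ?_)
  rintro ⟨z, hz⟩
  obtain ⟨x, rfl⟩ := hφ z
  exact ⟨⟨x, hz⟩, rfl⟩

/-- The components modulo the `p'`-core have soluble outer automorphism groups. -/
theorem Good.outer {X : Type u} [Group X] [Finite X] (h : Good p X)
    {L : Subgroup (X ⧸ pPrimeCore p X)} (hL : IsComponent L) :
    Group.IsSolvable (Cfsg.Out (↥L ⧸ Subgroup.center ↥L)) := by
  haveI := Transfer.pPrimeCore_normal p X
  have hF : generalizedFittingSubgroup ↥L = ⊤ := top_le_iff.mp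
    (le_trans (isComponent_le_layer ⟨Subgroup.IsSubnormal.top,
      (isQuasisimple_congr (Subgroup.topEquiv (G := ↥L))).mpr hL.2⟩) le_sup_left)
  have hO : pPrimeCore p ↥L = ⊥ := by
    rw [← Subgroup.map_eq_bot_iff_of_injective _ L.subtype_injective,
      map_pPrimeCore_of_isSubnormal hL.1, pPrimeCore_quotient_eq_bot, bot_inf_eq]
  have eF : ↥(generalizedFittingSubgroup ↥L) ≃* ↥L :=
    (MulEquiv.subgroupCongr hF).trans Subgroup.topEquiv
  let f : ↥(L.comap (QuotientGroup.mk' (pPrimeCore p X))) →* ↥L :=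
    (QuotientGroup.mk' (pPrimeCore p X)).subgroupComap L
  have hf : Function.Surjective f := by
    rintro ⟨z, hz⟩
    obtain ⟨x, rfl⟩ := QuotientGroup.mk'_surjective _ z
    exact ⟨⟨x, hz⟩, rfl⟩
  exact out_solvable_congr (quotient_center_congr eF).some
    (h _ ↥L f hf ((isQuasisimple_congr eF).mpr hL.2) hO).2

/-! ### Central extensions by `p`-groups -/

variable {G H : Type u} [Group G] [Finite G] [Group H] [Finite H]

theorem PComp.comap_injective {f : G →* H} (hf : Function.Injective f) {K : Subgroup H}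
    (h : PComp p K) (hle : K ≤ f.range) : PComp p (K.comap f) :=
  ⟨h.sn.comap f, pGen_of_map_injective hf (by rw [Subgroup.map_comap_eq_self hle]; exact h.gen),
    isQuasisimple_coreQuot_congr (((K.comap f).equivMapOfInjective f hf).trans
      (MulEquiv.subgroupCongr (Subgroup.map_comap_eq_self hle))).symm h.qs⟩

/-- Lifting generation by `p`-elements along a hom with `p`-group kernel. -/
theorem pGen_of_map_pGen {f : G →* H} (hk : IsPGroup p f.ker) {K : Subgroup G}
    (h : pGen p (K.map f) = K.map f) : pGen p K = K := by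
  refine le_antisymm (pGen_le K) ?_
  have h1 : K.map f ≤ (pGen p K).map f := by
    refine h.symm.le.trans ((Subgroup.closure_le _).mpr ?_)
    rintro _ ⟨⟨x, hx, rfl⟩, j, hj⟩
    have h2 : x ^ p ^ j ∈ f.ker := by
      rw [MonoidHom.mem_ker, map_pow]; exact orderOf_dvd_iff_pow_eq_one.mp hj
    obtain ⟨i, hi⟩ := hk ⟨_, h2⟩
    refine ⟨x, mem_pGen (j := j + i) hx (orderOf_dvd_of_pow_eq_one ?_), rfl⟩
    rw [pow_add, pow_mul]
    exact congrArg Subtype.val hi
  intro x hx
  obtain ⟨y, hy, hye⟩ := h1 ⟨x, hx, rfl⟩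
  have h3 : y⁻¹ * x ∈ f.ker := by
    rw [MonoidHom.mem_ker, map_mul, map_inv, hye, inv_mul_cancel]
  obtain ⟨i, hi⟩ := hk ⟨_, h3⟩
  have h4 : y⁻¹ * x ∈ pGen p K := mem_pGen (j := i) (mul_mem (inv_mem (pGen_le K hy)) hx)
    (orderOf_dvd_of_pow_eq_one (congrArg Subtype.val hi))
  simpa using mul_mem hy h4

/-- A central `p`-subgroup splits off from a normal subgroup with `p'`-quotient. -/
theorem le_core_sup_center {M Z : Subgroup G} [M.Normal] (hZM : Z ≤ M) (hZ : Z ≤ Subgroup.center G)
    (hZp : IsPGroup p Z) (hc : (Z.relIndex M).Coprime p) :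
    M ≤ pPrimeCore p G ⊔ Subgroup.center G := by
  haveI : (Z.subgroupOf M).Normal := ⟨fun z hz g => by
    show (g : G) * (z : G) * (g : G)⁻¹ ∈ Z
    rw [Subgroup.mem_center_iff.mp (hZ (show (z : G) ∈ Z from hz)) g, mul_inv_cancel_right]
    exact hz⟩
  obtain ⟨k, hk⟩ := IsPGroup.iff_card.mp hZp
  have hcard : Nat.card ↥(Z.subgroupOf M) = p ^ k := by
    rw [Nat.card_congr (Subgroup.subgroupOfEquivOfLe hZM).toEquiv, hk]
  obtain ⟨C, hC⟩ := Subgroup.exists_right_complement'_of_coprime (N := Z.subgroupOf M) (by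
    rw [hcard]; exact (hc.symm.pow_left k))
  have hCc : (Nat.card ↥C).Coprime p := by
    have : Nat.card ↥C = Z.relIndex M := hC.symm.card_left.symm ▸ rfl
    rw [this]; exact hc
  set C' := C.map M.subtype with hC'
  have hmem : ∀ m ∈ M, ∃ z ∈ Z, ∃ c ∈ C', z * c = m := by
    intro m hm
    obtain ⟨⟨z, c⟩, hzc⟩ := hC.2 ⟨m, hm⟩
    exact ⟨_, z.2, _, ⟨c.1, c.2, rfl⟩, congrArg Subtype.val hzc⟩
  have hC'c : (Nat.card ↥C').Coprime p := by
    rw [hC', Subgroup.card_map_of_injective M.subtype_injective]; exact hCc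
  haveI hN : C'.Normal := by
    refine ⟨fun c hcC g => ?_⟩
    obtain ⟨z, hz, c', hc', he⟩ := hmem _ ((inferInstance : M.Normal).conj_mem c (Subgroup.map_subtype_le _ hcC) g)
    have h1 : (g * c * g⁻¹) ^ Nat.card ↥C' = 1 := by
      rw [conj_pow, show c ^ Nat.card ↥C' = 1 from congrArg Subtype.val (pow_card_eq_one' (x := (⟨c, hcC⟩ : ↥C')))]
      simp
    rw [← he, (show Commute z c' from (Subgroup.mem_center_iff.mp (hZ hz) c').symm).mul_pow,
      show c' ^ Nat.card ↥C' = 1 from congrArg Subtype.val (pow_card_eq_one' (x := (⟨c', hc'⟩ : ↥C'))),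
      mul_one] at h1
    obtain ⟨i, hi⟩ := hZp ⟨z, hz⟩
    have hz1 : z = 1 := by
      have := pow_gcd_eq_one.mpr ⟨h1, (congrArg Subtype.val hi : z ^ p ^ i = 1)⟩
      rwa [(hC'c.pow_right i), pow_one] at this
    rw [← he, hz1, one_mul]
    exact hc'
  intro m hm
  obtain ⟨z, hz, c, hc', rfl⟩ := hmem m hm
  exact mul_mem (Subgroup.mem_sup_right (hZ hz)) (Subgroup.mem_sup_left (Transfer.le_pPrimeCore hN hC'c hc'))

/-- Non-quasisimple `p`-components lift along central extensions by `p`-groups. -/
theorem nqsPart_le_map {f : G →* H} (hf : Function.Surjective f) (hc : f.ker ≤ Subgroup.center G)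
    (hk : IsPGroup p f.ker) : nqsPart p H ≤ (nqsPart p G).map f := by
  refine iSup_le fun D => ?_
  obtain ⟨L, hL, hLq⟩ := D
  show L ≤ _
  set P := L.comap f with hP
  set K := ⁅P, P⁆ with hK
  have hmap : K.map f = L := by
    rw [hK, Subgroup.map_commutator, hP, Subgroup.map_comap_eq_self_of_surjective hf, hL.perfect]
  have hPe : P = K ⊔ f.ker := by rw [hP, ← hmap, Subgroup.comap_map_eq]
  have hperf : ⁅K, K⁆ = K := by
    conv_rhs => rw [hK, hPe, commutator_sup_central hc]
  have hsn : K.IsSubnormal := by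
    have h1 : (commutator ↥P).map P.subtype = K := by
      rw [commutator_def, Subgroup.map_commutator, ← MonoidHom.range_eq_map, Subgroup.range_subtype]
    rw [← h1]
    exact (inferInstance : (commutator ↥P).Normal).isSubnormal.trans' (hL.sn.comap f)
  have hgen : pGen p K = K := pGen_of_map_pGen hk (by rw [hmap]; exact hL.gen)
  haveI := Transfer.pPrimeCore_normal p ↥K
  haveI := Transfer.pPrimeCore_normal p ↥(K.map f)
  set g := f.subgroupMap K with hg
  have hgs : Function.Surjective g := f.subgroupMap_surjective K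
  have hZ : g.ker ≤ Subgroup.center ↥K := fun z hz => Subgroup.mem_center_iff.mpr fun y =>
    Subtype.ext (Subgroup.mem_center_iff.mp (hc (show (z : G) ∈ f.ker from congrArg Subtype.val hz)) y)
  have hZp : IsPGroup p g.ker := fun z => by
    obtain ⟨i, hi⟩ := hk ⟨((z : ↥K) : G), congrArg Subtype.val (MonoidHom.mem_ker.mp z.2)⟩
    exact ⟨i, Subtype.ext (Subtype.ext (by simpa using congrArg Subtype.val hi))⟩
  have hqs : IsQuasisimple (↥K ⧸ pPrimeCore p ↥K) := by
    haveI : Group.IsPerfect ↥K := Subgroup.isPerfect_iff.mpr hperf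
    haveI : Group.IsPerfect (↥K ⧸ pPrimeCore p ↥K) :=
      Group.IsPerfect.ofSurjective (QuotientGroup.mk'_surjective _)
    have hle : (pPrimeCore p ↥K).map g ≤ pPrimeCore p ↥(K.map f) :=
      Transfer.le_pPrimeCore (Subgroup.Normal.map inferInstance g hgs)
        ((Transfer.pPrimeCore_coprime (G := ↥K) p).coprime_dvd_left (Subgroup.card_map_dvd _ _))
    let F := QuotientGroup.map (pPrimeCore p ↥K) (pPrimeCore p ↥(K.map f)) g
      (Subgroup.map_le_iff_le_comap.mp hle)
    refine isQuasisimple_of_central_ker (f := F) ?_ ?_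
      (isQuasisimple_coreQuot_congr (MulEquiv.subgroupCongr hmap.symm) hL.qs)
    · intro y
      obtain ⟨y, rfl⟩ := QuotientGroup.mk'_surjective _ y
      obtain ⟨x, rfl⟩ := hgs y
      exact ⟨QuotientGroup.mk x, rfl⟩
    · intro y hy
      obtain ⟨y, rfl⟩ := QuotientGroup.mk'_surjective _ y
      have hym : y ∈ (pPrimeCore p ↥(K.map f)).comap g :=
        Subgroup.mem_comap.mpr ((QuotientGroup.eq_one_iff (g y)).mp hy)
      haveI : ((pPrimeCore p ↥(K.map f)).comap g).Normal := Subgroup.Normal.comap inferInstance g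
      have hM := le_core_sup_center (M := (pPrimeCore p ↥(K.map f)).comap g) (Z := g.ker)
        (Subgroup.ker_le_comap g _) hZ hZp (by
          have : g.ker = (⊥ : Subgroup ↥(K.map f)).comap g := rfl
          rw [this, Subgroup.relIndex_comap, Subgroup.map_comap_eq_self_of_surjective hgs,
            Subgroup.relIndex_bot_left]
          exact Transfer.pPrimeCore_coprime p)
      obtain ⟨o, ho, z, hz, rfl⟩ := Subgroup.mem_sup_of_normal_left.mp (hM hym)
      refine Subgroup.mem_center_iff.mpr fun w => ?_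
      obtain ⟨w, rfl⟩ := QuotientGroup.mk'_surjective _ w
      rw [map_mul, show QuotientGroup.mk' (pPrimeCore p ↥K) o = 1 from
        (QuotientGroup.eq_one_iff o).mpr ho, one_mul, ← map_mul, ← map_mul,
        Subgroup.mem_center_iff.mp hz w]
  have hKc : PComp p K := ⟨hsn, hgen, hqs⟩
  have hne : L ≠ ⊥ := hL.ne_bot
  have hKq : ¬ IsQuasisimple ↥K := fun hq => by
    haveI : Nontrivial ↥(K.map f) := (Subgroup.nontrivial_iff_ne_bot _).mpr (hmap ▸ hne)
    exact hLq ((isQuasisimple_congr (MulEquiv.subgroupCongr hmap)).mp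
      (isQuasisimple_of_surjective hgs hq))
  rw [← hmap]
  exact Subgroup.map_mono (le_nqsPart hKc hKq)

end CfsgLib.NonQS
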